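import Cfsg.Agent.Lib.M12Cent22.Tab

/-!
# An element of order eight in a Sylow 2-subgroup of `M12`

Every Sylow 2-subgroup of `M12` has order 64 and contains a self-centralizing element of order 8
which is conjugate inside the subgroup to its odd powers.
-/

set_option autoImplicit false
set_option linter.style.haveILetI false
set_option maxRecDepth 20000

namespace Cfsg.Agent.Lib.M12SylowRow67

open Cfsg Cfsg.Agent.Lib.M12Cent22

/-- Indices of a 2-subgroup of order 32 of the table. -/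
def L : List (Fin 192) :=
  [0, 1, 2, 3, 21, 25, 28, 29, 42, 43, 56, 59, 65, 67, 82, 84, 92, 94, 102, 103, 118, 119, 123,
    127, 134, 135, 154, 156, 159, 175, 178, 190]

/-- The square. -/
def sqr (i : Fin 192) : Fin 192 := tm i i

/-- The element of order eight. -/
def e : Fin 192 := 2

/-- Its powers. -/
def e2 : Fin 192 := sqr e
def e3 : Fin 192 := tm e2 e
def e4 : Fin 192 := tm e3 e
def e5 : Fin 192 := tm e4 e
def e6 : Fin 192 := tm e5 e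
def e7 : Fin 192 := tm e6 e

/-- The conjugating elements. -/
def c3 : Fin 192 := 21
def c5 : Fin 192 := 25
def c7 : Fin 192 := tm c3 c5

theorem chk_mul : ∀ i ∈ L, ∀ j ∈ L, tm i j ∈ L := by decide +kernel

theorem chk_inv : ∀ i ∈ L, ∃ j ∈ L, tm i j = 0 := by decide +kernel

theorem chk_exp : ∀ i ∈ L, sqr (sqr (sqr i)) = 0 := by decide +kernel

theorem chk_mem : e ∈ L ∧ c3 ∈ L ∧ c5 ∈ L ∧ c7 ∈ L := by decide +kernel

theorem chk_L : (∀ i ∈ L, ∀ j ∈ L, tm i j ∈ L) ∧ (∀ i ∈ L, ∃ j ∈ L, tm i j = 0) ∧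
    (∀ i ∈ L, sqr (sqr (sqr i)) = 0) ∧ e ∈ L ∧ c3 ∈ L ∧ c5 ∈ L ∧ c7 ∈ L :=
  ⟨chk_mul, chk_inv, chk_exp, chk_mem⟩

theorem chk_powers : e4 = 1 ∧ tm c3 e = tm e3 c3 ∧ tm c5 e = tm e5 c5 ∧ tm c7 e = tm e7 c7 := by
  decide +kernel

theorem chk_cent : ∀ i : Fin 192, tm i e = tm e i →
    i = 0 ∨ i = e ∨ i = e2 ∨ i = e3 ∨ i = e4 ∨ i = e5 ∨ i = e6 ∨ i = e7 := by
  decide +kernel

variable {G : Type*} [Group G] {z : G} (F : Tab z)

theorem tab_zero : F.f 0 = 1 := by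
  have h := F.f_mul 0 0
  rw [hr] at h
  exact mul_eq_left.1 h

theorem tab_pow {i j : Fin 192} {n : ℕ} (h : F.f i = F.f e ^ n) (hij : j = tm i e) :
    F.f j = F.f e ^ (n + 1) := by
  rw [hij, ← F.f_mul, h, pow_succ]

theorem powers : F.f e2 = F.f e ^ 2 ∧ F.f e3 = F.f e ^ 3 ∧ F.f e4 = F.f e ^ 4 ∧
    F.f e5 = F.f e ^ 5 ∧ F.f e6 = F.f e ^ 6 ∧ F.f e7 = F.f e ^ 7 := by
  have h2 : F.f e2 = F.f e ^ 2 := tab_pow F (pow_one _).symm rfl
  have h3 : F.f e3 = F.f e ^ 3 := tab_pow F h2 rfl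
  have h4 : F.f e4 = F.f e ^ 4 := tab_pow F h3 rfl
  have h5 : F.f e5 = F.f e ^ 5 := tab_pow F h4 rfl
  have h6 : F.f e6 = F.f e ^ 6 := tab_pow F h5 rfl
  exact ⟨h2, h3, h4, h5, h6, tab_pow F h6 rfl⟩

/-- The subgroup listed by `L`. -/
def sub : Subgroup G where
  carrier := {x | ∃ i ∈ L, F.f i = x}
  mul_mem' := by
    rintro _ _ ⟨i, hi, rfl⟩ ⟨j, hj, rfl⟩
    exact ⟨_, chk_L.1 i hi j hj, (F.f_mul i j).symm⟩
  one_mem' := ⟨0, by decide +kernel, tab_zero F⟩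
  inv_mem' := by
    rintro _ ⟨i, hi, rfl⟩
    obtain ⟨j, hj, hij⟩ := chk_L.2.1 i hi
    exact ⟨j, hj, eq_inv_of_mul_eq_one_right (by rw [F.f_mul, hij, tab_zero])⟩

theorem isPGroup_sub : IsPGroup 2 (sub F) := by
  rintro ⟨_, i, hi, rfl⟩
  refine ⟨3, Subtype.ext ?_⟩
  have h := congrArg F.f (chk_L.2.2.1 i hi)
  simp only [sqr, ← F.f_mul, tab_zero] at h
  show F.f i ^ 2 ^ 3 = 1
  rw [show (2 : ℕ) ^ 3 = 1 + 1 + (1 + 1) + (1 + 1 + (1 + 1)) by norm_num]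
  simp only [pow_add, pow_one]
  exact h

/-- The properties of the element of order eight. -/
theorem element (F : Tab z) (hz : orderOf z = 2) : ∃ P : Subgroup G, IsPGroup 2 P ∧ ∃ f ∈ P, orderOf f = 8 ∧
    (∀ x : G, x * f = f * x → x ∈ Subgroup.zpowers f) ∧
    ∀ k ∈ ({3, 5, 7} : Set ℕ), ∃ x ∈ P, x * f * x⁻¹ = f ^ k := by
  obtain ⟨h2, h3, h4, h5, h6, h7⟩ := powers F
  obtain ⟨he4, k3, k5, k7⟩ := chk_powers
  have hfour : F.f e ^ 4 = z := by rw [← h4, he4, F.f_one]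
  refine ⟨sub F, isPGroup_sub F, F.f e, ⟨e, chk_L.2.2.2.1, rfl⟩, ?_, ?_, ?_⟩
  · haveI : Fact (Nat.Prime 2) := ⟨Nat.prime_two⟩
    refine orderOf_eq_prime_pow (n := 2) (p := 2) ?_ ?_
    · norm_num
      rw [hfour]
      rintro rfl
      simp at hz
    · norm_num
      rw [show (8 : ℕ) = 4 * 2 by norm_num, pow_mul, hfour, ← hz, pow_orderOf_eq_one]
  · intro x hx
    have hxz : x ∈ Subgroup.centralizer ({z} : Set G) := by
      rw [Subgroup.mem_centralizer_singleton_iff, ← hfour]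
      exact (Commute.pow_right hx 4).eq
    obtain ⟨i, rfl⟩ := (F.mem_iff x).1 hxz
    rw [F.f_mul, F.f_mul] at hx
    rcases chk_cent i (F.f_inj hx) with rfl | rfl | rfl | rfl | rfl | rfl | rfl | rfl
    · rw [tab_zero]; exact one_mem _
    · exact Subgroup.mem_zpowers _
    all_goals simp only [h2, h3, h4, h5, h6, h7, Subgroup.npow_mem_zpowers]
  · intro k hk
    have key : ∀ {c d : Fin 192}, c ∈ L → tm c e = tm d c →
        ∃ x ∈ sub F, x * F.f e * x⁻¹ = F.f d := fun {c d} hc h => ⟨F.f c, ⟨c, hc, rfl⟩, by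
      rw [mul_inv_eq_iff_eq_mul, F.f_mul, F.f_mul, h]⟩
    simp only [Set.mem_insert_iff, Set.mem_singleton_iff] at hk
    rcases hk with rfl | rfl | rfl
    · exact h3 ▸ key chk_L.2.2.2.2.1 k3
    · exact h5 ▸ key chk_L.2.2.2.2.2.1 k5
    · exact h7 ▸ key chk_L.2.2.2.2.2.2 k7

end Cfsg.Agent.Lib.M12SylowRow67
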