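import Cfsg.Agent.Lib.M12SylowRow67.Sylow
import Cfsg.Prelude.Def_Spor_Mathieu

/-!
# A group with the Sylow 2-subgroup of `M12` and two classes of involutions

The characterisation by an element of order eight in a Sylow 2-subgroup applies.
-/

set_option autoImplicit false
set_option linter.style.haveILetI false

namespace Cfsg.Agent.Lib.M12SylowRow67

open Cfsg

universe u

theorem row1741_of
    (h3296 : ∀ {G : Type u} [Group G] [Finite G] [IsSimpleGroup G], ¬ IsMulCommutative G →
      ∀ P : Sylow 2 G, Nat.card (P : Subgroup G) = 64 →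
      ∀ f : G, f ∈ (P : Subgroup G) → orderOf f = 8 →
      (∀ x ∈ (P : Subgroup G), x * f = f * x → x ∈ Subgroup.zpowers f) →
      (∀ k ∈ ({3, 5, 7} : Set ℕ), ∃ x ∈ (P : Subgroup G), x * f * x⁻¹ = f ^ k) →
      (∃ s t : G, orderOf s = 2 ∧ orderOf t = 2 ∧ ¬ IsConj s t) →
      Nonempty (G ≃* Cfsg.Spor.M12))
    {G : Type u} [Group G] [Finite G] [IsSimpleGroup G] (S : Sylow 2 G) (P : Sylow 2 ↥Cfsg.Spor.M12)
    (hS : Nonempty (↥(S : Subgroup G) ≃* ↥(P : Subgroup ↥Cfsg.Spor.M12)))
    (h2 : ∃ x y : G, orderOf x = 2 ∧ orderOf y = 2 ∧ ¬ IsConj x y) : Cfsg.Spor.IsoM12 G := by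
  obtain ⟨e⟩ := hS
  obtain ⟨hcard, f, hfS, hf, hself, hconj⟩ := sylow_data (S : Subgroup G) P e
  have hna : ¬ IsMulCommutative G := fun hc => by
    letI : CommGroup G := { (inferInstance : Group G) with mul_comm := hc.is_comm.comm }
    have hp : (Nat.card G).Prime := IsSimpleGroup.prime_card
    have hd : 64 ∣ Nat.card G := hcard ▸ Subgroup.card_subgroup_dvd_card _
    rcases hp.eq_one_or_self_of_dvd 2 (dvd_trans (by norm_num) hd) with h | h
    · norm_num at h
    · rw [← h] at hd
      norm_num at hd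
  exact h3296 hna S hcard f hfS hf hself hconj h2

end Cfsg.Agent.Lib.M12SylowRow67
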