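import Cfsg.Agent.Lib.M12SylowRow67.Data
import Cfsg.Agent.Lib.Golay.Simple

/-!
# The Sylow 2-subgroups of `M12` and of a group of the same type
-/

set_option autoImplicit false
set_option linter.style.haveILetI false

namespace Cfsg.Agent.Lib.M12SylowRow67

open Cfsg Cfsg.Agent.Lib

theorem card_sylow (P : Sylow 2 ↥Spor.M12) : Nat.card (P : Subgroup ↥Spor.M12) = 64 := by
  haveI : Fact (Nat.Prime 2) := ⟨Nat.prime_two⟩
  rw [Sylow.card_eq_multiplicity, Golay.card_spor_M12,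
    show (95040 : ℕ) = 2 ^ 6 * 1485 by norm_num,
    Nat.factorization_mul (by norm_num) (by norm_num), Finsupp.add_apply,
    Nat.Prime.factorization_pow Nat.prime_two, Finsupp.single_eq_same,
    Nat.factorization_eq_zero_of_not_dvd (by norm_num : ¬ 2 ∣ 1485)]
  norm_num

theorem exists_twoCentral : ∃ u : ↥Spor.M12, Cfsg.IsTwoCentralInvolution u := by
  haveI : Fact (Nat.Prime 2) := ⟨Nat.prime_two⟩
  obtain ⟨P⟩ : Nonempty (Sylow 2 ↥Spor.M12) := inferInstance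
  haveI : Nontrivial (P : Subgroup ↥Spor.M12) :=
    Finite.one_lt_card_iff_nontrivial.1 (by rw [card_sylow]; norm_num)
  haveI := P.2.center_nontrivial
  obtain ⟨m, hm⟩ := IsPGroup.iff_card.1 (P.2.to_subgroup (Subgroup.center (P : Subgroup ↥Spor.M12)))
  have h1 : 1 < Nat.card (Subgroup.center (P : Subgroup ↥Spor.M12)) := Finite.one_lt_card
  have hm0 : m ≠ 0 := fun h => by rw [hm, h] at h1; simp at h1
  obtain ⟨c, hc⟩ := exists_prime_orderOf_dvd_card' 2
    (show 2 ∣ Nat.card (Subgroup.center (P : Subgroup ↥Spor.M12)) from hm ▸ dvd_pow_self 2 hm0)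
  refine ⟨(c : (P : Subgroup ↥Spor.M12)), ?_, P, (c : (P : Subgroup ↥Spor.M12)).2, fun x hx => ?_⟩
  · rw [Subgroup.orderOf_coe, Subgroup.orderOf_coe, hc]
  · exact congrArg Subtype.val (Subgroup.mem_center_iff.1 c.2 ⟨x, hx⟩)

/-- Every group isomorphic to a Sylow 2-subgroup of `M12` has the required element of order eight. -/
theorem sylow_data {G : Type*} [Group G] (S : Subgroup G) (P : Sylow 2 ↥Spor.M12)
    (e : ↥S ≃* ↥(P : Subgroup ↥Spor.M12)) : Nat.card S = 64 ∧ ∃ f ∈ S, orderOf f = 8 ∧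
      (∀ x ∈ S, x * f = f * x → x ∈ Subgroup.zpowers f) ∧
      ∀ k ∈ ({3, 5, 7} : Set ℕ), ∃ x ∈ S, x * f * x⁻¹ = f ^ k := by
  haveI : Fact (Nat.Prime 2) := ⟨Nat.prime_two⟩
  refine ⟨(Nat.card_congr e.toEquiv).trans (card_sylow P), ?_⟩
  obtain ⟨u, hu⟩ := exists_twoCentral
  obtain ⟨F⟩ := M12Cent22.exists_tab u hu u hu.1 (MulEquiv.refl _)
  obtain ⟨H, hH, f, hfH, hf, hcent, hconj⟩ := element F hu.1
  obtain ⟨Q, hQ⟩ := hH.exists_le_sylow
  let d : ↥S ≃* ↥(Q : Subgroup ↥Spor.M12) := e.trans (Sylow.equiv P Q)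
  let a : ↥S := d.symm ⟨f, hQ hfH⟩
  have hda : (d a : ↥Spor.M12) = f := by simp [a]
  refine ⟨a, a.2, ?_, fun x hx hxa => ?_, fun k hk => ?_⟩
  · rw [Subgroup.orderOf_coe, ← MulEquiv.orderOf_eq d a, ← Subgroup.orderOf_coe, hda, hf]
  · have h : d ⟨x, hx⟩ * d a = d a * d ⟨x, hx⟩ := by
      rw [← map_mul, ← map_mul]
      exact congrArg d (Subtype.ext hxa)
    have h' := congrArg Subtype.val h
    simp only [Subgroup.coe_mul, hda] at h'
    obtain ⟨n, hn⟩ := Subgroup.mem_zpowers_iff.1 (hcent _ h')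
    refine Subgroup.mem_zpowers_iff.2 ⟨n, ?_⟩
    have h2 : d (a ^ n) = d ⟨x, hx⟩ := Subtype.ext (by
      rw [map_zpow, SubgroupClass.coe_zpow, hda, hn])
    simpa using congrArg Subtype.val (d.injective h2)
  · obtain ⟨y, hy, hyk⟩ := hconj k hk
    refine ⟨d.symm ⟨y, hQ hy⟩, (d.symm ⟨y, hQ hy⟩).2, ?_⟩
    have h2 : d (d.symm ⟨y, hQ hy⟩ * a * (d.symm ⟨y, hQ hy⟩)⁻¹) = d (a ^ k) := Subtype.ext (by
      simp only [map_mul, map_inv, map_pow, MulEquiv.apply_symm_apply, Subgroup.coe_mul,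
        InvMemClass.coe_inv, SubmonoidClass.coe_pow, hda, hyk])
    simpa using congrArg Subtype.val (d.injective h2)

end Cfsg.Agent.Lib.M12SylowRow67
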